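import Mathlib

/-!
# Kummer torsors of maximal level
-/

set_option autoImplicit false
set_option linter.style.haveILetI false

universe u

open Polynomial

noncomputable section

namespace Groth.Agent.KummerLevelLib

theorem pow_sub_pow_le {p : ℕ} (hp : 2 ≤ p) (v : ℕ) :
    ∀ d : ℕ, p ^ (v + d) - p ^ v ≤ d * (p ^ (v + d - 1) * (p - 1))
  | 0 => by simp
  | d + 1 => by
    have ih := pow_sub_pow_le hp v d
    have h1 : p ^ (v + d - 1) ≤ p ^ (v + d) := Nat.pow_le_pow_right (by omega) (by omega)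
    have h2 : p ^ v ≤ p ^ (v + d) := Nat.pow_le_pow_right (by omega) (by omega)
    have h3 : p ^ (v + (d + 1)) = p ^ (v + d) * p := pow_succ p (v + d)
    have h4 : p ^ (v + d) * (p - 1) + p ^ (v + d) = p ^ (v + d) * p := by
      rw [← Nat.mul_succ]; congr 1; omega
    have h5 : d * (p ^ (v + d - 1) * (p - 1)) ≤ d * (p ^ (v + d) * (p - 1)) :=
      Nat.mul_le_mul_left _ (Nat.mul_le_mul_right _ h1)
    rw [show v + (d + 1) - 1 = v + d by omega, h3, Nat.add_mul, one_mul]
    omega

variable {A : Type u} [CommRing A]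

theorem exists_choose_eq {p : ℕ} (hp : p.Prime) {n : ℕ} {P : A} {m : ℕ}
    (hdiv : P ^ (p ^ (n - 1) * (p - 1) * m) ∣ (p : A)) :
    ∃ d : ℕ → A, ∀ i ∈ Finset.Ico 1 (p ^ n),
      ((p ^ n).choose i : A) = P ^ (m * (p ^ n - i)) * d i := by
  have key : ∀ i ∈ Finset.Ico 1 (p ^ n), ∃ d, ((p ^ n).choose i : A) = P ^ (m * (p ^ n - i)) * d := by
    intro i hi
    obtain ⟨h1, h2⟩ := Finset.mem_Ico.1 hi
    let v := multiplicity p i
    have hv : p ^ v ≤ i := Nat.le_of_dvd h1 (pow_multiplicity_dvd p i)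
    have hvn : v < n := (Nat.pow_lt_pow_iff_right hp.one_lt).1 (hv.trans_lt h2)
    have hd : p ^ (n - v) ∣ (p ^ n).choose i :=
      pow_dvd_of_le_emultiplicity (by rw [Nat.Prime.emultiplicity_choose_prime_pow hp h2.le (by omega)])
    have hle : p ^ n - i ≤ (n - v) * (p ^ (n - 1) * (p - 1)) := by
      have := pow_sub_pow_le hp.two_le v (n - v)
      rw [Nat.add_sub_cancel' hvn.le] at this
      omega
    have hA : (P ^ (p ^ (n - 1) * (p - 1) * m)) ^ (n - v) ∣ ((p ^ n).choose i : A) :=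
      (pow_dvd_pow_of_dvd hdiv _).trans (by exact_mod_cast Nat.cast_dvd_cast (α := A) hd)
    rw [← pow_mul] at hA
    have hexp : m * (p ^ n - i) ≤ p ^ (n - 1) * (p - 1) * m * (n - v) := by
      calc m * (p ^ n - i) ≤ m * ((n - v) * (p ^ (n - 1) * (p - 1))) := Nat.mul_le_mul_left _ hle
        _ = _ := by ring
    exact (pow_dvd_pow P hexp).trans hA
  classical
  exact ⟨fun i => if hi : i ∈ Finset.Ico 1 (p ^ n) then (key i hi).choose else 0, fun i hi => by
    simp only [dif_pos hi]; exact (key i hi).choose_spec⟩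

variable {L : Type u} [CommRing L] [Algebra A L]

/-- The lower terms. -/
def low (d : ℕ → A) (P : A) (k q : ℕ) : A[X] :=
  ∑ i ∈ Finset.Ico 1 q, C (P ^ (k * (q - i)) * d i) * X ^ i

theorem expand {q : ℕ} (hq : 0 < q) {P : A} {m : ℕ} {d : ℕ → A}
    (hd : ∀ i ∈ Finset.Ico 1 q, (q.choose i : A) = P ^ (m * (q - i)) * d i)
    (j k : ℕ) (hjk : j + k = m) (x : L) :
    (1 + algebraMap A L P ^ j * x) ^ q =
      1 + algebraMap A L P ^ (j * q) * (x ^ q + aeval x (low d P k q)) := by
  rw [add_comm, add_pow]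
  simp only [one_pow, mul_one]
  rw [Finset.range_eq_Ico, Finset.sum_Ico_succ_top (Nat.zero_le q), Finset.sum_eq_sum_Ico_succ_bot hq]
  simp only [pow_zero, one_mul, Nat.choose_zero_right, Nat.cast_one, Nat.choose_self, zero_add,
    low, map_sum, map_mul, aeval_C, aeval_X, map_pow, mul_pow, ← pow_mul, mul_one]
  rw [mul_add, Finset.mul_sum, add_assoc]
  congr 1
  rw [add_comm]
  congr 1
  refine Finset.sum_congr rfl fun i hi => ?_
  have hi' := (Finset.mem_Ico.1 hi).2.le
  have e : (q.choose i : L) = algebraMap A L P ^ (m * (q - i)) * algebraMap A L (d i) := by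
    rw [← map_pow, ← map_mul, ← hd i hi, map_natCast]
  rw [e, ← hjk]
  obtain ⟨t, rfl⟩ := Nat.exists_eq_add_of_le hi'
  rw [Nat.add_sub_cancel_left]
  ring

theorem isIntegral_of_eq [Nontrivial A] {q : ℕ} (hq : 0 < q) (d : ℕ → A) (P : A) (k : ℕ) (x : L) {c : L}
    (hc : IsIntegral A c) (h : x ^ q + aeval x (low d P k q) = c) : IsIntegral A x := by
  refine IsIntegral.of_aeval_monic (p := X ^ q + low d P k q) ?_ ?_ ?_
  · refine monic_X_pow_add ((degree_sum_le _ _).trans_lt ((Finset.sup_lt_iff (WithBot.bot_lt_coe q)).2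
      fun i hi => (degree_C_mul_X_pow_le i _).trans_lt ?_))
    exact Nat.cast_lt.2 (Finset.mem_Ico.1 hi).2
  · have hlt : (low d P k q).degree < (X ^ q : A[X]).degree := by
      rw [degree_X_pow]
      refine (degree_sum_le _ _).trans_lt ((Finset.sup_lt_iff (WithBot.bot_lt_coe q)).2
        fun i hi => (degree_C_mul_X_pow_le i _).trans_lt ?_)
      exact Nat.cast_lt.2 (Finset.mem_Ico.1 hi).2
    rw [natDegree_eq_of_degree_eq (degree_add_eq_left_of_degree_lt hlt), natDegree_X_pow]
    omega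
  · simpa [h] using hc

theorem isIntegral_aeval_low {q : ℕ} (d : ℕ → A) (P : A) (k : ℕ) {x : L} (hx : IsIntegral A x) :
    IsIntegral A (x ^ q + aeval x (low d P k q)) := by
  refine (hx.pow q).add ?_
  simp only [low, map_sum, map_mul, aeval_C, aeval_X_pow]
  exact IsIntegral.sum _ fun i _ => by rw [← map_mul]; exact isIntegral_algebraMap.mul (hx.pow i)

theorem low_mem_span {q : ℕ} (d : ℕ → A) (P : A) {k : ℕ} (hk : 0 < k) (x : A) :
    aeval x (low d P k q) ∈ Ideal.span {P} := by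
  simp only [low, map_sum, map_mul, aeval_C, aeval_X_pow, Algebra.algebraMap_self, RingHom.id_apply]
  refine Ideal.sum_mem _ fun i hi => ?_
  have := (Finset.mem_Ico.1 hi).2
  refine Ideal.mul_mem_right _ _ (Ideal.mul_mem_right _ _ (Ideal.mem_span_singleton.2
    (dvd_pow_self P ?_)))
  exact Nat.mul_ne_zero (by omega) (by omega)

theorem main [IsDomain A] [IsIntegrallyClosed A] {p : ℕ} (hp : p.Prime) {n : ℕ} (P : A)
    (hP : P ≠ 0) (j : ℕ) (hdiv : P ^ (p ^ (n - 1) * (p - 1) * (j + 1)) ∣ (p : A))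
    (hn : 0 < n) (f g : Aˣ) (f₀ g₀ : A)
    (hlift : ∀ a : A, IsUnit (Ideal.Quotient.mk (Ideal.span {P}) a) → IsUnit a)
    (hfg : (f : A) * (g : A) ^ (p ^ n) = 1 + P ^ (j * p ^ n) * f₀)
    (Aπ : Type u) [CommRing Aπ] [Algebra A Aπ] [IsLocalization.Away P Aπ]
    [Algebra Aπ L] [IsScalarTower A Aπ L] (hinj : Function.Injective (algebraMap Aπ L))
    (Z : L) (hZ : Z ^ (p ^ n) = algebraMap A L f)
    (hred : (Ideal.span {algebraMap A (integralClosure A L) P}).IsRadical)
    (hg₀ : f₀ - g₀ ^ (p ^ n) ∈ Ideal.span {P}) :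
    ∃ (g' : Aˣ) (c : A), (f : A) * (g' : A) ^ (p ^ n) = 1 + P ^ ((j + 1) * p ^ n) * c := by
  set q := p ^ n with hqdef
  have hq : 0 < q := pow_pos hp.pos n
  obtain ⟨d, hd⟩ := exists_choose_eq hp hdiv
  let π : L := algebraMap A L P
  have hπu : IsUnit π := by
    show IsUnit (algebraMap A L P)
    rw [IsScalarTower.algebraMap_apply A Aπ L]
    exact (IsLocalization.Away.algebraMap_isUnit P).map _
  obtain ⟨π', hπ'⟩ := (hπu.pow j).exists_right_inv
  let w : L := π' * (Z * algebraMap A L g - 1)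
  have hw : 1 + π ^ j * w = Z * algebraMap A L g := by
    show 1 + π ^ j * (π' * _) = _
    rw [← mul_assoc, hπ', one_mul, add_sub_cancel]
  have hFw : w ^ q + aeval w (low d P 1 q) = algebraMap A L f₀ := by
    have e := expand (L := L) hq hd j 1 rfl w
    rw [show (algebraMap A L P) = π from rfl, hw, mul_pow, hZ, ← map_pow, ← map_mul, hfg, map_add,
      map_one, map_mul, map_pow] at e
    exact (((hπu.pow (j * q)).mul_left_cancel (add_left_cancel e))).symm
  have hwint : IsIntegral A w := isIntegral_of_eq hq d P 1 w isIntegral_algebraMap hFw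
  let B := integralClosure A L
  let wB : B := ⟨w, hwint⟩
  let I : Ideal B := Ideal.span {algebraMap A B P}
  have hpI : (p : B) ∈ I := by
    obtain ⟨c, hc⟩ := (dvd_pow_self P (Nat.mul_ne_zero (Nat.mul_ne_zero (pow_pos hp.pos _).ne'
      (by have := hp.two_le; omega)) (Nat.succ_ne_zero j))).trans hdiv
    rw [← map_natCast (algebraMap A B), hc, map_mul]
    exact Ideal.mul_mem_right _ _ (Ideal.mem_span_singleton_self _)
  have hwq : wB ^ q - algebraMap A B f₀ ∈ I := by
    have e : wB ^ q - algebraMap A B f₀ = -aeval wB (low d P 1 q) := by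
      apply Subtype.ext
      push_cast
      rw [← hFw]
      ring
    rw [e]
    refine I.neg_mem ?_
    simp only [low, map_sum, map_mul, aeval_C, aeval_X_pow]
    refine I.sum_mem fun i hi => ?_
    have := (Finset.mem_Ico.1 hi).2
    rw [map_pow]
    exact I.mul_mem_right _ (I.mul_mem_right _ (I.pow_mem_of_mem (Ideal.mem_span_singleton_self _) _
      (by rw [one_mul]; omega)))
  have hsub : (wB - algebraMap A B g₀) ^ q ∈ I := by
    obtain ⟨r, hr⟩ := (Commute.all (wB - algebraMap A B g₀) (algebraMap A B g₀)).exists_add_pow_prime_pow_eq hp n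
    rw [sub_add_cancel, ← hqdef] at hr
    have e : (wB - algebraMap A B g₀) ^ q =
        (wB ^ q - algebraMap A B f₀) + algebraMap A B (f₀ - g₀ ^ q) -
          (p : B) * ((wB - algebraMap A B g₀) * algebraMap A B g₀ * r) := by
      rw [map_sub, map_pow, hr]; ring
    rw [e]
    refine I.sub_mem (I.add_mem hwq ?_) (I.mul_mem_right _ hpI)
    obtain ⟨c, hc⟩ := Ideal.mem_span_singleton.1 hg₀
    rw [hc, map_mul]
    exact Ideal.mul_mem_right _ _ (Ideal.mem_span_singleton_self _)
  obtain ⟨b, hb⟩ := Ideal.mem_span_singleton.1 (hred ⟨q, hsub⟩)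
  have hwb : w = algebraMap A L g₀ + π * (b : L) := by
    have := congrArg (fun z : B => (z : L)) hb
    push_cast at this
    rw [← sub_add_cancel w (algebraMap A L g₀)]
    rw [show w - algebraMap A L g₀ = π * (b : L) from this]
    ring
  obtain ⟨u, hu⟩ : IsUnit (1 + P ^ j * g₀) := hlift _ (by
    rw [← isUnit_pow_iff hq.ne', ← map_pow]
    have e := expand (A := A) (L := A) hq hd j 1 rfl g₀
    simp only [Algebra.algebraMap_self, RingHom.id_apply] at e
    have hmem : (1 + P ^ j * g₀) ^ q - (f : A) * (g : A) ^ q ∈ Ideal.span {P} := by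
      rw [e, hfg, show 1 + P ^ (j * q) * (g₀ ^ q + aeval g₀ (low d P 1 q)) - (1 + P ^ (j * q) * f₀) =
        P ^ (j * q) * (aeval g₀ (low d P 1 q) - (f₀ - g₀ ^ q)) by ring]
      exact Ideal.mul_mem_left _ _ (Ideal.sub_mem _ (low_mem_span d P one_pos g₀) hg₀)
    rw [Ideal.Quotient.eq.2 hmem]
    exact ((f.isUnit.mul (g.isUnit.pow q)).map _))
  let g' : Aˣ := g * u⁻¹
  let x : L := (b : L) * algebraMap A L ((u⁻¹ : Aˣ) : A)
  have hx : IsIntegral A x := (b.2).mul isIntegral_algebraMap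
  have hZg : Z * algebraMap A L g' = 1 + π ^ (j + 1) * x := by
    have hu1 : algebraMap A L (1 + P ^ j * g₀) * algebraMap A L ((u⁻¹ : Aˣ) : A) = 1 := by
      rw [← map_mul, ← hu, Units.mul_inv, map_one]
    rw [show ((g' : Aˣ) : A) = (g : A) * ((u⁻¹ : Aˣ) : A) from rfl, map_mul, ← mul_assoc, ← hw, hwb,
      show (1 + π ^ j * (algebraMap A L g₀ + π * (b : L))) =
        algebraMap A L (1 + P ^ j * g₀) + π ^ (j + 1) * (b : L) by
          rw [map_add, map_one, map_mul, map_pow]; ring,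
      add_mul, hu1, mul_assoc]
  set s := x ^ q + aeval x (low d P 0 q) with hs
  have hsint : IsIntegral A s := isIntegral_aeval_low d P 0 hx
  have heq : algebraMap A L ((f : A) * (g' : A) ^ q) = 1 + π ^ ((j + 1) * q) * s := by
    rw [map_mul, map_pow, ← hZ, ← mul_pow, hZg]
    exact expand hq hd (j + 1) 0 rfl x
  let t : A := (f : A) * (g' : A) ^ q - 1
  let a : Aπ := IsLocalization.mk' Aπ t (⟨P ^ ((j + 1) * q), _, rfl⟩ : Submonoid.powers P)
  have ha : algebraMap Aπ L a = s := by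
    refine (hπu.pow ((j + 1) * q)).mul_left_cancel ?_
    rw [show π ^ ((j + 1) * q) = algebraMap A L (P ^ ((j + 1) * q)) from (map_pow _ _ _).symm,
      IsScalarTower.algebraMap_apply A Aπ L, ← map_mul,
      show algebraMap A Aπ (P ^ ((j + 1) * q)) * a = algebraMap A Aπ t from
        IsLocalization.mk'_spec' Aπ t (⟨P ^ ((j + 1) * q), _, rfl⟩ : Submonoid.powers P),
      ← IsScalarTower.algebraMap_apply A Aπ L, ← IsScalarTower.algebraMap_apply A Aπ L,
      map_pow, map_sub, map_one, heq, add_sub_cancel_left]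
  have haint : IsIntegral A a := (isIntegral_algebraMap_iff hinj).1 (ha ▸ hsint)
  let K := FractionRing A
  have hle : Submonoid.powers P ≤ (nonZeroDivisors A).comap (RingHom.id A) := by
    rintro _ ⟨k, rfl⟩
    exact pow_mem (mem_nonZeroDivisors_of_ne_zero hP) k
  have hPK : IsUnit (algebraMap A K P) :=
    IsLocalization.map_units K (⟨P, mem_nonZeroDivisors_of_ne_zero hP⟩ : nonZeroDivisors A)
  let φ : Aπ →+* K := IsLocalization.Away.lift P hPK
  have hφ : ∀ y, φ (algebraMap A Aπ y) = algebraMap A K y := fun y => IsLocalization.Away.lift_eq P hPK y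
  let φA : Aπ →ₐ[A] K := AlgHom.mk φ hφ
  obtain ⟨c, hc⟩ := IsIntegrallyClosed.isIntegral_iff.1 (haint.map φA)
  refine ⟨g', c, eq_add_of_sub_eq' ?_⟩
  apply IsFractionRing.injective A K
  rw [map_mul, hc, ← φA.commutes (P ^ ((j + 1) * q)), ← map_mul,
    show algebraMap A Aπ (P ^ ((j + 1) * q)) * a = algebraMap A Aπ t from
      IsLocalization.mk'_spec' Aπ t (⟨P ^ ((j + 1) * q), _, rfl⟩ : Submonoid.powers P),
    φA.commutes]

end Groth.Agent.KummerLevelLib
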